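import Mathlib.GroupTheory.GroupAction.MultipleTransitivity
import Mathlib.Algebra.Group.Subgroup.Basic
import Mathlib.Tactic.Group

/-!
One point extensions of multiply transitive groups.
-/

set_option autoImplicit false
set_option linter.style.haveILetI false

namespace CfsgLib.OnePointExtension

open Equiv

variable {X : Type*}

theorem exists_pair_embedding (k : ℕ) (hk : 2 ≤ k) (e : Fin k ↪ X) {a b : X} (hab : a ≠ b) :
    ∃ u : Fin k ↪ X, u ⟨0, by omega⟩ = a ∧ u ⟨1, by omega⟩ = b := by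
  classical
  set i0 : Fin k := ⟨0, by omega⟩
  set i1 : Fin k := ⟨1, by omega⟩
  have hne : i0 ≠ i1 := by simp [i0, i1]
  let π := Equiv.swap (e i0) a
  have h0 : π (e i0) = a := Equiv.swap_apply_left _ _
  have h1 : π (e i1) ≠ a := fun h => hne (e.injective (π.injective (h0.trans h.symm)))
  refine ⟨e.trans (π.trans (Equiv.swap (π (e i1)) b)).toEmbedding, ?_, ?_⟩
  · change Equiv.swap (π (e i1)) b (π (e i0)) = a
    rw [h0, Equiv.swap_apply_of_ne_of_ne h1.symm hab]
  · exact Equiv.swap_apply_left _ _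

variable (G : Subgroup (Perm (Option X))) (h : Perm (Option X))

/-- `G ∪ GhG` is closed under multiplication and inversion under the hypotheses of the criterion. -/
theorem mem_double (hh : h ^ 2 ∈ G) (hhGh : ∀ f ∈ G, h * f * h ∈ G ∨ ∃ a ∈ G, ∃ b ∈ G, h * f * h = a * h * b)
    {f : Perm (Option X)} (hf : f ∈ Subgroup.closure ((G : Set (Perm (Option X))) ∪ {h})) :
    f ∈ G ∨ ∃ a ∈ G, ∃ b ∈ G, f = a * h * b := by
  have hinv : h⁻¹ = (h ^ 2)⁻¹ * h := by group
  induction hf using Subgroup.closure_induction with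
  | mem v hv =>
    rcases hv with hv | hv
    · exact Or.inl hv
    · rw [Set.mem_singleton_iff] at hv
      exact Or.inr ⟨1, one_mem _, 1, one_mem _, by rw [hv, one_mul, mul_one]⟩
  | one => exact Or.inl (one_mem _)
  | mul u v _ _ hu hv =>
    rcases hu with hu | ⟨a, ha, b, hb, rfl⟩
    · rcases hv with hv | ⟨c, hc, d, hd, rfl⟩
      · exact Or.inl (mul_mem hu hv)
      · exact Or.inr ⟨u * c, mul_mem hu hc, d, hd, by simp [mul_assoc]⟩
    · rcases hv with hv | ⟨c, hc, d, hd, rfl⟩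
      · exact Or.inr ⟨a, ha, b * v, mul_mem hb hv, by simp [mul_assoc]⟩
      · have e : a * h * b * (c * h * d) = a * (h * (b * c) * h) * d := by simp [mul_assoc]
        rcases hhGh (b * c) (mul_mem hb hc) with hin | ⟨p, hp, q, hq, hpq⟩
        · exact Or.inl (by rw [e]; exact mul_mem (mul_mem ha hin) hd)
        · exact Or.inr ⟨a * p, mul_mem ha hp, q * d, mul_mem hq hd, by rw [e, hpq]; simp [mul_assoc]⟩
  | inv u _ hu =>
    rcases hu with hu | ⟨a, ha, b, hb, rfl⟩
    · exact Or.inl (inv_mem hu)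
    · exact Or.inr ⟨b⁻¹ * (h ^ 2)⁻¹, mul_mem (inv_mem hb) (inv_mem hh), a⁻¹, inv_mem ha, by
        rw [mul_inv_rev, mul_inv_rev, hinv]; simp [mul_assoc]⟩

theorem criterion (hfix : ∀ f ∈ G, f none = none) (k : ℕ) (hk : 2 ≤ k) (hkX : Nonempty (Fin k ↪ X))
    (htrans : ∀ a b : Fin k ↪ X, ∃ f ∈ G, ∀ i, f (some (a i)) = some (b i))
    (g : Perm (Option X)) (hg : g ∈ G) (x y : X)
    (h1 : h none = some x) (h2 : h (some x) = none) (h3 : h (some y) = some y)
    (h4 : g (some x) = some y)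
    (h6 : (g * h) ^ 3 ∈ G) (h7 : h ^ 2 ∈ G)
    (h8 : ∀ f ∈ G, f (some x) = some x → h * f * h ∈ G ∧ (h * f * h) (some x) = some x) :
    (∀ f ∈ Subgroup.closure ((G : Set (Perm (Option X))) ∪ {h}), f none = none ↔ f ∈ G) ∧
      MulAction.IsMultiplyPretransitive (Subgroup.closure ((G : Set (Perm (Option X))) ∪ {h}))
        (Option X) (k + 1) := by
  obtain ⟨e⟩ := hkX
  have hxy : x ≠ y := fun he => by
    rw [← he, h2] at h3
    exact Option.some_ne_none x h3.symm
  have hpair : ∀ a b c d : X, a ≠ b → c ≠ d →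
      ∃ f ∈ G, f (some a) = some c ∧ f (some b) = some d := by
    intro a b c d hab hcd
    obtain ⟨u, hu0, hu1⟩ := exists_pair_embedding k hk e hab
    obtain ⟨v, hv0, hv1⟩ := exists_pair_embedding k hk e hcd
    obtain ⟨f, hf, hfi⟩ := htrans u v
    exact ⟨f, hf, by rw [← hu0, hfi, hv0], by rw [← hu1, hfi, hv1]⟩
  have hinv1 : h⁻¹ = (h ^ 2)⁻¹ * h := by group
  have hinv2 : h⁻¹ = h * (h ^ 2)⁻¹ := by group
  have hhGh : ∀ f ∈ G, h * f * h ∈ G ∨ ∃ a ∈ G, ∃ b ∈ G, h * f * h = a * h * b := by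
    intro f hf
    by_cases hfx : f (some x) = some x
    · exact Or.inl (h8 f hf hfx).1
    right
    obtain ⟨z, hz⟩ : ∃ z, f (some x) = some z := by
      cases hfs : f (some x) with
      | none => exact absurd (f.injective (hfs.trans (hfix f hf).symm)) (Option.some_ne_none x)
      | some z => exact ⟨z, rfl⟩
    have hzx : z ≠ x := fun he => hfx (he ▸ hz)
    obtain ⟨u, hu, hux, huy⟩ := hpair x y x z hxy hzx.symm
    set v := g⁻¹ * u⁻¹ * f with hv
    have hvG : v ∈ G := mul_mem (mul_mem (inv_mem hg) (inv_mem hu)) hf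
    have hvx : v (some x) = some x := by
      rw [hv, Perm.mul_apply, Perm.mul_apply, hz, ← huy]
      simp [← h4]
    obtain ⟨huG, -⟩ := h8 u hu hux
    obtain ⟨hvG', -⟩ := h8 v hvG hvx
    have hgh : h * g * h = g⁻¹ * (g * h) ^ 3 * (h ^ 2)⁻¹ * h * g⁻¹ := by
      rw [mul_assoc _ (h ^ 2)⁻¹ h, ← hinv1, pow_succ, pow_two]; group
    refine ⟨(h * u * h) * (h ^ 2)⁻¹ * (g⁻¹ * (g * h) ^ 3 * (h ^ 2)⁻¹),
      mul_mem (mul_mem huG (inv_mem h7)) (mul_mem (mul_mem (inv_mem hg) h6) (inv_mem h7)),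
      g⁻¹ * (h ^ 2)⁻¹ * (h * v * h), mul_mem (mul_mem (inv_mem hg) (inv_mem h7)) hvG', ?_⟩
    calc h * f * h = (h * u * h) * h⁻¹ * g * h⁻¹ * (h * v * h) := by rw [hv]; group
      _ = (h * u * h) * (h ^ 2)⁻¹ * (h * g * h) * (h ^ 2)⁻¹ * (h * v * h) := by
          nth_rw 1 [hinv1]; rw [hinv2]; simp [mul_assoc]
      _ = _ := by rw [hgh]; simp [mul_assoc]
  have hstab : ∀ f ∈ Subgroup.closure ((G : Set (Perm (Option X))) ∪ {h}), f none = none ↔ f ∈ G := by
    intro f hf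
    refine ⟨fun hn => ?_, hfix f⟩
    rcases mem_double G h h7 hhGh hf with hG | ⟨a, ha, b, hb, rfl⟩
    · exact hG
    · exfalso
      rw [Perm.mul_apply, Perm.mul_apply, hfix b hb, h1] at hn
      exact Option.some_ne_none x (a.injective (hn.trans (hfix a ha).symm))
  refine ⟨hstab, ?_⟩
  set Γ := Subgroup.closure ((G : Set (Perm (Option X))) ∪ {h})
  have hGΓ : ∀ f ∈ G, f ∈ Γ := fun f hf => Subgroup.subset_closure (Or.inl hf)
  have hhΓ : h ∈ Γ := Subgroup.subset_closure (Or.inr rfl)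
  have hto : ∀ w : Option X, ∃ f ∈ Γ, f w = none := by
    rintro (_ | w)
    · exact ⟨1, one_mem _, rfl⟩
    · by_cases hw : w = x
      · exact ⟨h, hhΓ, hw ▸ h2⟩
      · obtain ⟨f, hf, hfw, -⟩ := hpair w x x y hw hxy
        exact ⟨h * f, mul_mem hhΓ (hGΓ f hf), by rw [Perm.mul_apply, hfw, h2]⟩
  refine ⟨fun a b => ?_⟩
  obtain ⟨fa, hfa, hfa'⟩ := hto (a (Fin.last k))
  obtain ⟨fb, hfb, hfb'⟩ := hto (b (Fin.last k))
  have hsome : ∀ (c : Fin (k + 1) ↪ Option X) (f : Perm (Option X)), f (c (Fin.last k)) = none →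
      ∃ u : Fin k ↪ X, ∀ i, f (c i.castSucc) = some (u i) := by
    intro c f hc
    have hne : ∀ i : Fin k, ∃ z, f (c i.castSucc) = some z := fun i => by
      cases hfs : f (c i.castSucc) with
      | none =>
        exact absurd (c.injective (f.injective (hfs.trans hc.symm))) (Fin.castSucc_lt_last i).ne
      | some z => exact ⟨z, rfl⟩
    choose u hu using hne
    exact ⟨⟨u, fun i j hij => Fin.castSucc_injective _ (c.injective (f.injective (by rw [hu, hu, hij])))⟩, hu⟩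
  obtain ⟨ua, hua⟩ := hsome a fa hfa'
  obtain ⟨ub, hub⟩ := hsome b fb hfb'
  obtain ⟨f, hf, hfi⟩ := htrans ua ub
  refine ⟨⟨fb⁻¹ * f * fa, mul_mem (mul_mem (inv_mem hfb) (hGΓ f hf)) hfa⟩, ?_⟩
  refine Function.Embedding.ext fun i => ?_
  change (fb⁻¹ * f * fa) (a i) = b i
  rw [Perm.mul_apply, Perm.mul_apply, Perm.inv_eq_iff_eq]
  induction i using Fin.lastCases with
  | last => rw [hfa', hfb', hfix f hf]
  | cast i => rw [hua, hub, hfi]

end CfsgLib.OnePointExtension
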